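import Groth.Agent.Hensel.PairNoeth
import Groth.Agent.SepSurj.Basic
import Mathlib.RingTheory.AdicCompletion.AsTensorProduct

/-!
# A local map bijective on completions is flat
-/

universe u

open IsLocalRing

namespace Groth.Agent.MonoOpen

/-- A local homomorphism of noetherian local rings, bijective modulo all powers of the maximal ideals, is flat. -/
theorem flat_of_bijective_levels {A B : Type u} [CommRing A] [CommRing B] [IsLocalRing A] [IsLocalRing B]
    [IsNoetherianRing A] [IsNoetherianRing B] [Algebra A B] [IsLocalHom (algebraMap A B)]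
    (hsurj : ∀ (n : ℕ) (b : B), ∃ a, b - algebraMap A B a ∈ maximalIdeal B ^ n)
    (hinj : ∀ (n : ℕ) (a : A), algebraMap A B a ∈ maximalIdeal B ^ n → a ∈ maximalIdeal A ^ n) :
    Module.Flat A B := by
  have hle : (maximalIdeal A).map (algebraMap A B) ≤ maximalIdeal B :=
    ((IsLocalRing.local_hom_TFAE (algebraMap A B)).out 0 2).1 ‹_›
  have hmap : (maximalIdeal A).map (algebraMap A B) = maximalIdeal B := by
    refine le_antisymm hle (Submodule.le_of_le_smul_of_le_jacobson_bot (IsNoetherian.noetherian _)
      (IsLocalRing.maximalIdeal_le_jacobson ⊥) ?_)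
    intro y hy
    obtain ⟨a, ha⟩ := hsurj 2 y
    have h1 : algebraMap A B a ∈ maximalIdeal B := by
      have := Ideal.sub_mem _ hy (Ideal.pow_le_self two_ne_zero ha)
      simpa using this
    have h2 : a ∈ maximalIdeal A := fun hu => h1 (hu.map _)
    rw [← add_sub_cancel (algebraMap A B a) y]
    refine Submodule.add_mem_sup (Ideal.mem_map_of_mem _ h2) ?_
    rw [smul_eq_mul, ← pow_two]; exact ha
  have hb : Hensel.PowBij (maximalIdeal A) B :=
    ⟨fun n a ha => hinj n a (hmap ▸ ha), fun n s => by rw [hmap]; exact hsurj n s⟩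
  letI := hb.toCompletion.toAlgebra
  haveI : IsScalarTower A B (AdicCompletion (maximalIdeal A) A) := by
    refine IsScalarTower.of_algebraMap_eq fun a => AdicCompletion.ext_evalₐ fun n => ?_
    rw [RingHom.algebraMap_toAlgebra, hb.evalₐ_toCompletion (a := a) (by simp)]
    simp
  haveI : Module.Flat B (AdicCompletion (maximalIdeal A) A) := hb.flat
  haveI : Module.FaithfullyFlat B (AdicCompletion (maximalIdeal A) A) := by
    refine ⟨fun m hm htop => ?_⟩
    obtain rfl := IsLocalRing.eq_maximalIdeal hm
    have h1 : (maximalIdeal A).map (algebraMap A (AdicCompletion (maximalIdeal A) A)) = ⊤ := by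
      rw [IsScalarTower.algebraMap_eq A B, ← Ideal.map_map, hmap]
      rw [Ideal.smul_top_eq_map] at htop
      exact Submodule.restrictScalars_injective B _ _ (by simpa using htop)
    have h2 : (maximalIdeal A).map (algebraMap A (AdicCompletion (maximalIdeal A) A)) ≤
        RingHom.ker (AdicCompletion.evalₐ (maximalIdeal A) 1).toRingHom := by
      refine Ideal.map_le_iff_le_comap.2 fun a ha => ?_
      show AdicCompletion.evalₐ (maximalIdeal A) 1 (algebraMap A _ a) = 0
      rw [AlgHom.commutes, Ideal.Quotient.algebraMap_eq, Ideal.Quotient.eq_zero_iff_mem, pow_one]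
      exact ha
    rw [h1] at h2
    have h3 := h2 (Submodule.mem_top (x := (1 : AdicCompletion (maximalIdeal A) A)))
    rw [RingHom.mem_ker, map_one, ← map_one (Ideal.Quotient.mk (maximalIdeal A ^ 1)),
      Ideal.Quotient.eq_zero_iff_mem, pow_one] at h3
    exact (maximalIdeal A).ne_top_iff_one.1 (maximalIdeal.isMaximal A).ne_top h3
  exact SepSurj.flat_of_comp_faithfullyFlat (T := AdicCompletion (maximalIdeal A) A)

end Groth.Agent.MonoOpen
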